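import Mathlib
import Cfsg.Agent.H145.BR.CountDefs

/-!
# S4891, S4857, S4829 : integer valued witnesses (helper145)

`RowZ p S` : for every `p`-group `A` of automorphisms of `S` there is an integer valued nontrivial `A`-invariant
irreducible character in the principal `p`-block, of degree prime to `p`.  `RowInt → RowZ → RowT`.
-/

set_option autoImplicit false

open Subgroup

namespace Cfsg.Agent.H145.BR

open Cfsg

universe u v

/-- an integer valued witness invariant under the automorphisms in `A` -/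
def RowZA (p : ℕ) (S : Type u) [Group S] (A : Subgroup (MulAut S)) : Prop :=
  ∀ M : Ideal AlgInt, IsPModular p M → ∃ θ : IrrCharacter S, θ ∈ principalBlock M S ∧ (θ : S → ℂ) ≠ (fun _ => 1) ∧
    ¬ p ∣ charDegree (θ : S → ℂ) ∧ (∀ g, ∃ k : ℤ, (θ : S → ℂ) g = k) ∧
    ∀ a ∈ A, ∀ x : S, (θ : S → ℂ) (a x) = (θ : S → ℂ) x

/-- **the integer valued row** -/
def RowZ (p : ℕ) (S : Type u) [Group S] : Prop :=
  ∀ A : Subgroup (MulAut S), IsPGroup p A → RowZA p S A

theorem RowZ.rowT {p : ℕ} [Fact p.Prime] {S : Type u} [Group S] (h : RowZ p S) : RowT p S := by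
  intro A hA M hM
  obtain ⟨θ, h1, h2, h3, h4, h5⟩ := h A hA M hM
  exact ⟨θ, ⟨h1, h2, h3, pRat_of_int h4⟩, h5⟩

theorem RowInt.rowZ {p : ℕ} {S : Type u} [Group S] (h : RowInt p S) : RowZ p S := by
  intro A _ M hM
  obtain ⟨θ, h1, h2, h3, h4, h5⟩ := h M hM
  exact ⟨θ, h1, h2, h3, h4, fun a _ x => h5 a x⟩

/-- the form needed by S4857 (`p ≠ 3`) : a rational nontrivial character in the principal block -/
def RowQ (p : ℕ) (S : Type u) [Group S] : Prop :=
  ∀ M : Ideal AlgInt, IsPModular p M → ∃ θ : IrrCharacter S, θ ∈ principalBlock M S ∧ (θ : S → ℂ) ≠ (fun _ => 1) ∧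
    ∀ g, ∃ k : ℚ, (θ : S → ℂ) g = k

theorem RowZ.rowQ {p : ℕ} {S : Type u} [Group S] (h : RowZ p S) : RowQ p S := by
  intro M hM
  obtain ⟨θ, h1, h2, -, h4, -⟩ := h ⊥ IsPGroup.of_bot M hM
  exact ⟨θ, h1, h2, fun g => by
    obtain ⟨k, hk⟩ := h4 g
    exact ⟨(k : ℚ), by rw [hk]; push_cast; rfl⟩⟩

/-- the integer valued row for a family; no hypothesis on the Sylow subgroups -/
def RowForZ (p : ℕ) (C : ∀ (X : Type) [Group X], Prop) : Prop :=
  ∀ (X : Type) [Group X] [Finite X] [IsSimpleGroup X], ¬ IsMulCommutative X → p ∣ Nat.card X → C X → RowZ p X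

theorem RowForZ.rowForT {p : ℕ} [Fact p.Prime] {C : ∀ (X : Type) [Group X], Prop} (h : RowForZ p C) : RowForT p C :=
  fun X _ _ _ hna hd _ hC => (h X hna hd hC).rowT

end Cfsg.Agent.H145.BR
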