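import Cfsg.Agent.H145.BR.RowZ
import Cfsg.Agent.H145.BR.CountReg
import Cfsg.Agent.H893.Sd.MemIff
import Cfsg.Agent.H687.Gen
import Cfsg.Agent.H464.PermIrr

/-!
# The counting criterion (helper145, S4891 / S4857)

* `count` : for a generalized permutation character `Φ = ∑ ε_i 1_{X_i}` with the multiplicities `k χ = [Φ, χ]`,
  `∑_{χ ∈ B0} k χ * χ(1) ≡ ∑ ε_i cnt P X_i` modulo `p`;
* `exists_fixed_of_sum` : a `p`-group of automorphisms preserving `k` fixes a nontrivial `χ ∈ B0` with `k χ ≠ 0`, of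
  degree prime to `p`, as soon as `∑_{χ ∈ B0} k χ * χ(1)` is not `k 1` modulo `p`;
* `rowZ_of_cnt`, `rowT_of_count`, … : the criteria for the rows.
-/

set_option autoImplicit false
set_option linter.unusedSectionVars false

open Subgroup
open scoped ComplexConjugate

namespace Cfsg.Agent.H145.BR

open Cfsg
open Cfsg.Agent.Blocks.Blau Cfsg.Agent.Blocks.Local Cfsg.Agent.Characters

universe u v

attribute [local instance] Cfsg.Agent.H687.autAct

variable {p : ℕ} [hp : Fact p.Prime] {M : Ideal AlgInt} {G : Type u} [Group G] [Finite G]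

theorem charDegree_cast' (χ : IrrCharacter G) : (χ : G → ℂ) 1 = (charDegree (χ : G → ℂ) : ℂ) := by
  obtain ⟨n, -, hn⟩ := Core.isIrr_apply_one χ.2
  have h : charDegree (χ : G → ℂ) = n := by
    unfold charDegree
    rw [hn]
    simp
  rw [h, hn]

/-- the principal block part of a class function with integer multiplicities -/
theorem sum_modEq_of_reg (hM : IsPModular p M) [Fintype G] [Fintype (IrrCharacter G)]
    [DecidablePred (· ∈ principalBlock M G)] (Φ : G → ℂ)
    (k : IrrCharacter G → ℤ) (hΦ : ∀ g, Φ g = ∑ χ : IrrCharacter G, (k χ : ℂ) * (χ : G → ℂ) g) (R : ℤ)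
    (hR : ∑ g : G, regPart p Φ g = R) :
    (∑ χ : IrrCharacter G, if χ ∈ principalBlock M G then k χ * (charDegree (χ : G → ℂ) : ℤ) else 0) *
      (Nat.card {x : G // ¬ p ∣ orderOf x} : ℤ) ≡ R [ZMOD p] := by
  classical
  have hMp : M.IsPrime := isPrime_of_isPModular hM
  have h1 : (R : ℂ) = ∑ χ : IrrCharacter G, (k χ : ℂ) * ∑ g : G, regPart p (χ : G → ℂ) g := by
    rw [← hR]
    have h2 : ∀ g : G, regPart p Φ g = ∑ χ : IrrCharacter G, (k χ : ℂ) * regPart p (χ : G → ℂ) g := by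
      intro g
      by_cases hg : p ∣ orderOf g
      · rw [regPart_of_dvd hg, Finset.sum_eq_zero]
        intro i _
        rw [regPart_of_dvd hg, mul_zero]
      · rw [regPart_of_not_dvd hg, hΦ]
        refine Finset.sum_congr rfl fun i _ => ?_
        rw [regPart_of_not_dvd hg]
    rw [Finset.sum_congr rfl fun g _ => h2 g, Finset.sum_comm]
    exact Finset.sum_congr rfl fun χ _ => by rw [Finset.mul_sum]
  have key : ∀ χ : IrrCharacter G, MemLocalIdeal M
      ((((if χ ∈ principalBlock M G then k χ * (charDegree (χ : G → ℂ) : ℤ) else 0) *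
        (Nat.card {x : G // ¬ p ∣ orderOf x} : ℤ) : ℤ) : ℂ) - (k χ : ℂ) * ∑ g : G, regPart p (χ : G → ℂ) g) := by
    intro χ
    by_cases hχ : χ ∈ principalBlock M G
    · rw [if_pos hχ]
      have h2 := pair_div_sub_pair_div hM (H893.Sd.one G).2 χ.2 (Core.isIrr_isCharacter (H893.Sd.one G).2) hχ
      have h3 : pair p ((H893.Sd.one G : IrrCharacter G) : G → ℂ) ((H893.Sd.one G : IrrCharacter G) : G → ℂ) =
        (Nat.card {x : G // ¬ p ∣ orderOf x} : ℂ) := H893.Sd.pair_one_one p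
      have h4 : ((H893.Sd.one G : IrrCharacter G) : G → ℂ) 1 = 1 := rfl
      have h5 : pair p (χ : G → ℂ) ((H893.Sd.one G : IrrCharacter G) : G → ℂ) = ∑ g : G, regPart p (χ : G → ℂ) g :=
        H893.Sd.pair_one p _
      rw [h3, h4, h5, div_one] at h2
      have h6 : (χ : G → ℂ) 1 ≠ 0 := apply_one_ne_zero χ
      have h7 := memLocalIdeal_mul_left (memLocalRing_intCast (M := M) (k χ * (charDegree (χ : G → ℂ) : ℤ))) h2
      have h8 : ((k χ * (charDegree (χ : G → ℂ) : ℤ) : ℤ) : ℂ) * ((Nat.card {x : G // ¬ p ∣ orderOf x} : ℂ) -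
          (∑ g : G, regPart p (χ : G → ℂ) g) / (χ : G → ℂ) 1) =
          (((k χ * (charDegree (χ : G → ℂ) : ℤ)) * (Nat.card {x : G // ¬ p ∣ orderOf x} : ℤ) : ℤ) : ℂ) -
            (k χ : ℂ) * ∑ g : G, regPart p (χ : G → ℂ) g := by
        rw [charDegree_cast'] at h6 ⊢
        push_cast
        field_simp
      rw [h8] at h7
      exact h7
    · rw [if_neg hχ, zero_mul, Int.cast_zero, zero_sub]
      have h2 : ∑ g : G, regPart p (χ : G → ℂ) g = 0 := by
        by_contra h3
        exact hχ ((H893.Sd.mem_iff hM χ).2 h3)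
      rw [h2, mul_zero, neg_zero]
      exact memLocalIdeal_zero
  have h2 := memLocalIdeal_sum (M := M) (s := Finset.univ) fun χ _ => key χ
  rw [Finset.sum_sub_distrib, ← h1, ← Int.cast_sum, ← Int.cast_sub, memLocalIdeal_intCast_iff hM,
    ← Finset.sum_mul] at h2
  exact (Int.modEq_iff_dvd.2 h2).symm

section fixed

theorem dvd_of_isIntegral {n : ℤ} {z : ℂ} (hz : IsIntegral ℤ z) (h : (n : ℂ) = (p : ℂ) * z) : (p : ℤ) ∣ n := by
  have hp0 : (p : ℂ) ≠ 0 := by exact_mod_cast hp.out.ne_zero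
  have h1 : z = algebraMap ℚ ℂ ((n : ℚ) / p) := by
    rw [eq_ratCast]
    push_cast
    field_simp
    rw [h, mul_comm]
  rw [h1] at hz
  have h2 : IsIntegral ℤ ((n : ℚ) / p) := (isIntegral_algebraMap_iff (algebraMap ℚ ℂ).injective).1 hz
  obtain ⟨m, hm⟩ := IsIntegrallyClosed.isIntegral_iff.1 h2
  refine ⟨m, ?_⟩
  have h3 : (m : ℚ) = (n : ℚ) / p := hm
  have hp1 : (p : ℚ) ≠ 0 := by exact_mod_cast hp.out.ne_zero
  rw [eq_div_iff hp1] at h3
  have h4 : (n : ℚ) = ((p * m : ℤ) : ℚ) := by push_cast; rw [← h3]; ring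
  exact_mod_cast h4

/-- the fixed characters of a `p`-group of automorphisms -/
theorem exists_fixed_of_sum (hM : IsPModular p M) [Fintype (IrrCharacter G)] [DecidablePred (· ∈ principalBlock M G)]
    (k : IrrCharacter G → ℤ) (A : Subgroup (MulAut G)) (hA : IsPGroup p A)
    (hk' : ∀ φ ∈ A, ∀ χ : IrrCharacter G, k (φ • χ) = k χ)
    (h : ¬ (∑ χ : IrrCharacter G, if χ ∈ principalBlock M G then k χ * (charDegree (χ : G → ℂ) : ℤ) else 0) ≡
      k (H893.Sd.one G) [ZMOD p]) :
    ∃ χ : IrrCharacter G, χ ∈ principalBlock M G ∧ (χ : G → ℂ) ≠ (fun _ => 1) ∧ ¬ p ∣ charDegree (χ : G → ℂ) ∧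
      k χ ≠ 0 ∧ ∀ a ∈ A, ∀ x : G, (χ : G → ℂ) (a x) = (χ : G → ℂ) x := by
  classical
  have hMp : M.IsPrime := isPrime_of_isPModular hM
  by_contra hcon
  push Not at hcon
  let _ : MulAction A (IrrCharacter G) := MulAction.compHom _ A.subtype
  have hact : ∀ (φ : A) (χ : IrrCharacter G), φ • χ = (φ : MulAut G) • χ := fun _ _ => rfl
  have happ : ∀ (φ : MulAut G) (χ : IrrCharacter G) (s : G),
      ((φ • χ : IrrCharacter G) : G → ℂ) s = (χ : G → ℂ) ((φ⁻¹ : MulAut G) s) := fun _ _ _ => rfl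
  obtain ⟨F, hF⟩ : ∃ F : IrrCharacter G → ℂ, ∀ χ, F χ =
      ((if χ ∈ principalBlock M G then k χ * (charDegree (χ : G → ℂ) : ℤ) else 0 : ℤ) : ℂ) := ⟨_, fun _ => rfl⟩
  have hint : ∀ χ, IsIntegral ℤ (F χ) := by
    intro χ
    rw [hF]
    exact isIntegral_intCast _
  have hdeg : ∀ (φ : A) (χ : IrrCharacter G), charDegree ((φ • χ : IrrCharacter G) : G → ℂ) = charDegree (χ : G → ℂ) := by
    intro φ χ
    unfold charDegree
    rw [hact, happ, map_one]
  have hFinv : ∀ (φ : A) (χ : IrrCharacter G), F (φ • χ) = F χ := by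
    intro φ χ
    rw [hF, hF, hdeg]
    simp only [hact, Cfsg.Agent.H687.smul_mem_principalBlock]
    rw [hk' _ φ.2]
  obtain ⟨z, hz, hsum2⟩ := Cfsg.Agent.H687.sum_fixed (p := p) hA F hFinv hint
  have hfix : ∀ χ : IrrCharacter G, χ ∈ MulAction.fixedPoints A (IrrCharacter G) →
      ∀ a ∈ A, ∀ x : G, (χ : G → ℂ) (a x) = (χ : G → ℂ) x := by
    intro χ hχ a ha x
    have e1 := hχ ⟨a⁻¹, inv_mem ha⟩
    have e2 := congrFun (congrArg Subtype.val e1) x
    rw [hact] at e2
    have e3 : (χ : G → ℂ) ((a⁻¹⁻¹ : MulAut G) x) = (χ : G → ℂ) x := e2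
    rwa [inv_inv] at e3
  set one : IrrCharacter G := H893.Sd.one G with hone
  have hmem : one ∈ principalBlock M G := Cfsg.Agent.Blocks.Basic.sameBlock_refl _
  have hone1 : one ∈ MulAction.fixedPoints A (IrrCharacter G) := by
    intro φ
    apply Subtype.ext
    funext s
    rw [hact]
    rfl
  have hFone : F one = k one := by
    rw [hF, if_pos hmem]
    have h9 : charDegree (one : G → ℂ) = 1 := by
      have := charDegree_cast' one
      have h10 : (one : G → ℂ) 1 = 1 := rfl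
      rw [h10] at this
      exact_mod_cast this.symm
    rw [h9]
    norm_num
  have h9 : ∃ w : ℤ, (∑ χ, if χ ∈ MulAction.fixedPoints A (IrrCharacter G) then F χ else 0) = k one + (p : ℂ) * w := by
    have h10 : ∀ χ : IrrCharacter G, ∃ w : ℤ, χ ≠ one →
        (if χ ∈ MulAction.fixedPoints A (IrrCharacter G) then F χ else 0) = (p : ℂ) * w := by
      intro χ
      by_cases hne : χ = one
      · exact ⟨0, fun h => absurd hne h⟩
      by_cases hχ : χ ∈ MulAction.fixedPoints A (IrrCharacter G)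
      · by_cases hχB : χ ∈ principalBlock M G
        · by_cases hd : p ∣ charDegree (χ : G → ℂ)
          · obtain ⟨c, hc⟩ := hd
            refine ⟨k χ * c, fun _ => ?_⟩
            rw [if_pos hχ, hF, if_pos hχB, hc]
            push_cast
            ring
          · by_cases hs : k χ = 0
            · refine ⟨0, fun _ => ?_⟩
              rw [if_pos hχ, hF, if_pos hχB, hs]
              simp
            · obtain ⟨a, ha, x, hx⟩ := hcon χ hχB (fun h => hne (Subtype.ext h)) hd hs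
              exact absurd (hfix χ hχ a ha x) hx
        · refine ⟨0, fun _ => ?_⟩
          rw [if_pos hχ, hF, if_neg hχB]
          simp
      · refine ⟨0, fun _ => ?_⟩
        rw [if_neg hχ]
        simp
    choose w hw using h10
    refine ⟨∑ χ ∈ Finset.univ.erase one, w χ, ?_⟩
    rw [← Finset.add_sum_erase Finset.univ _ (Finset.mem_univ one), if_pos hone1, hFone]
    congr 1
    rw [Int.cast_sum, Finset.mul_sum]
    exact Finset.sum_congr rfl fun χ hχ => hw χ (Finset.mem_erase.1 hχ).1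
  obtain ⟨w, hw⟩ := h9
  apply h
  rw [hw] at hsum2
  have h11 : ∑ χ, F χ = ((∑ χ : IrrCharacter G, if χ ∈ principalBlock M G then
      k χ * (charDegree (χ : G → ℂ) : ℤ) else 0 : ℤ) : ℂ) := by
    rw [Int.cast_sum]
    exact Finset.sum_congr rfl fun χ _ => hF χ
  rw [h11] at hsum2
  -- `T - k 1 = p (w + z)` with `z` integral
  set T : ℤ := ∑ χ : IrrCharacter G, if χ ∈ principalBlock M G then k χ * (charDegree (χ : G → ℂ) : ℤ) else 0
  have h12 : ((T - k one - p * w : ℤ) : ℂ) = (p : ℂ) * z := by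
    push_cast
    linear_combination hsum2
  have h13 : (p : ℤ) ∣ T - k one - p * w := dvd_of_isIntegral hz h12
  have h14 : (p : ℤ) ∣ T - k one := by
    have := dvd_add h13 (Dvd.intro w rfl : (p : ℤ) ∣ p * w)
    simpa using this
  exact (Int.modEq_iff_dvd.2 h14).symm

end fixed

section perm

open MulAction

theorem isCharacter_permC (X : Type v) [Finite X] [MulAction G X] : IsCharacter G (permC G X) :=
  H464.PermIrr.isCharacter_pc G X

/-- the sum of a permutation character over the `p`-regular elements -/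
theorem sum_reg_permC [Fintype G] (X : Type v) [Finite X] [MulAction G X] :
    ∑ g : G, regPart p (permC G X) g = (prs p G X : ℂ) := by
  classical
  have e : {q : G × X // ¬ p ∣ orderOf q.1 ∧ q.1 • q.2 = q.2} ≃
      (Σ x : {x : G // ¬ p ∣ orderOf x}, MulAction.fixedBy X x.1) :=
    { toFun := fun q => ⟨⟨q.1.1, q.2.1⟩, ⟨q.1.2, q.2.2⟩⟩
      invFun := fun z => ⟨(z.1.1, z.2.1), z.1.2, z.2.2⟩
      left_inv := fun z => rfl
      right_inv := fun z => rfl }
  unfold prs
  rw [Nat.card_congr e, Nat.card_sigma, Nat.cast_sum]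
  have h1 : ∀ g : G, regPart p (permC G X) g =
      if ¬ p ∣ orderOf g then (Nat.card (MulAction.fixedBy X g) : ℂ) else 0 := by
    intro g
    by_cases h : p ∣ orderOf g
    · rw [regPart_of_dvd h, if_neg (not_not.2 h)]
    · rw [regPart_of_not_dvd h, if_pos h]
      rfl
  rw [Finset.sum_congr rfl fun g _ => h1 g, ← Finset.sum_filter]
  exact (Finset.sum_subtype (Finset.univ.filter fun g : G => ¬ p ∣ orderOf g)
    (fun x => by rw [Finset.mem_filter]; exact ⟨fun h => h.2, fun h => ⟨Finset.mem_univ _, h⟩⟩)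
    (fun g : G => (Nat.card (MulAction.fixedBy X g) : ℂ)))

/-- a generalized permutation character -/
noncomputable def gpc (G : Type u) [Group G] {ι : Type*} (s : Finset ι) (X : ι → Type v) [∀ i, MulAction G (X i)]
    (ε : ι → ℤ) : G → ℂ := fun g => ∑ i ∈ s, (ε i : ℂ) * permC G (X i) g

variable {ι : Type*} (s : Finset ι) (X : ι → Type v) [∀ i, Finite (X i)] [∀ i, MulAction G (X i)] (ε : ι → ℤ)

theorem classInner_gpc [Fintype G] (ψ : G → ℂ) :
    classInner (gpc G s X ε) ψ = ∑ i ∈ s, (ε i : ℂ) * classInner (permC G (X i)) ψ := by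
  simp only [Core.classInner_def, gpc]
  rw [Finset.sum_congr rfl fun g _ => Finset.sum_mul s _ _, Finset.sum_comm, Finset.mul_sum]
  refine Finset.sum_congr rfl fun i _ => ?_
  rw [← mul_assoc, mul_comm (ε i : ℂ), mul_assoc, Finset.mul_sum (a := (ε i : ℂ))]
  congr 1
  exact Finset.sum_congr rfl fun g _ => by rw [mul_assoc]

theorem exists_mult [Fintype G] : ∃ k : IrrCharacter G → ℤ, ∀ χ : IrrCharacter G,
    (k χ : ℂ) = classInner (gpc G s X ε) (χ : G → ℂ) := by
  have h : ∀ χ : IrrCharacter G, ∃ k : ℤ, (k : ℂ) = classInner (gpc G s X ε) (χ : G → ℂ) := by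
    intro χ
    have h1 : ∀ i, ∃ n : ℕ, classInner (permC G (X i)) (χ : G → ℂ) = n := fun i =>
      Core.classInner_isNat (isCharacter_permC (X i)) (Core.isIrr_isCharacter χ.2)
    choose n hn using h1
    refine ⟨∑ i ∈ s, ε i * n i, ?_⟩
    rw [classInner_gpc, Int.cast_sum]
    refine Finset.sum_congr rfl fun i _ => ?_
    rw [hn]
    push_cast
    rfl
  choose k hk using h
  exact ⟨k, hk⟩

theorem gpc_eq_sum [Fintype G] [Fintype (IrrCharacter G)] {k : IrrCharacter G → ℤ}
    (hk : ∀ χ : IrrCharacter G, (k χ : ℂ) = classInner (gpc G s X ε) (χ : G → ℂ)) (g : G) :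
    gpc G s X ε g = ∑ χ : IrrCharacter G, (k χ : ℂ) * (χ : G → ℂ) g := by
  have hcl : IsClassFunction G (gpc G s X ε) := by
    intro x y
    unfold gpc
    refine Finset.sum_congr rfl fun i _ => ?_
    rw [Core.isCharacter_isClassFunction (isCharacter_permC (G := G) (X i)) x y]
  have h1 := congrFun (Core.classFunction_eq_sum hcl) g
  rw [Finset.sum_apply] at h1
  rw [h1]
  refine Finset.sum_congr rfl fun χ _ => ?_
  rw [Pi.smul_apply, smul_eq_mul, hk]

/-- **COUNT** -/
theorem count (hM : IsPModular p M) [Fintype G] [Fintype (IrrCharacter G)]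
    [DecidablePred (· ∈ principalBlock M G)] (P : Sylow p G) {k : IrrCharacter G → ℤ}
    (hk : ∀ χ : IrrCharacter G, (k χ : ℂ) = classInner (gpc G s X ε) (χ : G → ℂ)) :
    (∑ χ : IrrCharacter G, if χ ∈ principalBlock M G then k χ * (charDegree (χ : G → ℂ) : ℤ) else 0) ≡
      ∑ i ∈ s, ε i * (cnt (P : Subgroup G) (X i) : ℤ) [ZMOD p] := by
  have h1 := sum_modEq_of_reg hM (gpc G s X ε) k (gpc_eq_sum s X ε hk) (∑ i ∈ s, ε i * (prs p G (X i) : ℤ)) (by
    have h2 : ∀ g : G, regPart p (gpc G s X ε) g = ∑ i ∈ s, (ε i : ℂ) * regPart p (permC G (X i)) g := by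
      intro g
      by_cases hg : p ∣ orderOf g
      · rw [regPart_of_dvd hg, Finset.sum_eq_zero]
        intro i _
        rw [regPart_of_dvd hg, mul_zero]
      · rw [regPart_of_not_dvd hg]
        unfold gpc
        refine Finset.sum_congr rfl fun i _ => ?_
        rw [regPart_of_not_dvd hg]
    rw [Finset.sum_congr rfl fun g _ => h2 g, Finset.sum_comm, Int.cast_sum]
    refine Finset.sum_congr rfl fun i _ => ?_
    rw [← Finset.mul_sum, sum_reg_permC, Int.cast_mul, Int.cast_natCast])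
  have h2 : ∑ i ∈ s, ε i * (prs p G (X i) : ℤ) ≡
      ∑ i ∈ s, ε i * (cnt (P : Subgroup G) (X i) : ℤ) * (creg p (centralizer (P : Set G)) : ℤ) [ZMOD p] := by
    refine Int.ModEq.sum fun i _ => ?_
    have h3 : (prs p G (X i) : ℤ) ≡ ((creg p (centralizer (P : Set G)) * cnt (P : Subgroup G) (X i) : ℕ) : ℤ) [ZMOD p] :=
      (Int.natCast_modEq_iff).2 (prs_modEq P (X i))
    have h4 := h3.mul_left (ε i)
    push_cast at h4
    rw [mul_assoc, mul_comm (cnt (P : Subgroup G) (X i) : ℤ)]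
    exact h4
  have h3 : (Nat.card {x : G // ¬ p ∣ orderOf x} : ℤ) ≡ (creg p (centralizer (P : Set G)) : ℤ) [ZMOD p] :=
    (Int.natCast_modEq_iff).2 (creg_modEq P)
  rw [← Finset.sum_mul] at h2
  have h4 := ((h3.mul_left _).symm.trans h1).trans h2
  have h5 : IsCoprime (creg p (centralizer (P : Set G)) : ℤ) (p : ℤ) := by
    rw [Nat.isCoprime_iff_coprime]
    rw [Nat.coprime_comm, Nat.Prime.coprime_iff_not_dvd hp.out]
    intro h6
    have h7 : p ∣ Nat.card {x : G // ¬ p ∣ orderOf x} :=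
      (Nat.modEq_zero_iff_dvd).1 ((creg_modEq P).trans ((Nat.modEq_zero_iff_dvd).2 h6))
    exact Cfsg.Agent.Blocks.RegularCount.not_dvd_card_regular h7
  have h6 := (Int.modEq_iff_dvd).1 h4
  rw [← sub_mul] at h6
  exact (Int.modEq_iff_dvd).2 (h5.symm.dvd_of_dvd_mul_right h6)

/-- **The counting criterion**, for one `p`-group of automorphisms -/
theorem exists_of_count' (hM : IsPModular p M) [Fintype G] (P : Sylow p G) (A : Subgroup (MulAut G)) (hA : IsPGroup p A)
    (hinv : ∀ a ∈ A, ∀ g : G, gpc G s X ε (a g) = gpc G s X ε g) {m : ℤ}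
    (hm : (m : ℂ) = classInner (gpc G s X ε) (fun _ => 1))
    (h : ¬ (∑ i ∈ s, ε i * (cnt (P : Subgroup G) (X i) : ℤ)) ≡ m [ZMOD p]) :
    ∃ χ : IrrCharacter G, χ ∈ principalBlock M G ∧ (χ : G → ℂ) ≠ (fun _ => 1) ∧ ¬ p ∣ charDegree (χ : G → ℂ) ∧
      classInner (gpc G s X ε) (χ : G → ℂ) ≠ 0 ∧ ∀ a ∈ A, ∀ x : G, (χ : G → ℂ) (a x) = (χ : G → ℂ) x := by
  classical
  have hfin : Finite (IrrCharacter G) := Core.finite_irr
  have hft : Fintype (IrrCharacter G) := Fintype.ofFinite _
  obtain ⟨k, hk⟩ := exists_mult (G := G) s X ε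
  have hk1 : k (H893.Sd.one G) = m := by
    have h1 : (k (H893.Sd.one G) : ℂ) = (m : ℂ) := by
      rw [hk, hm]
      rfl
    exact_mod_cast h1
  have hk' : ∀ φ ∈ A, ∀ χ : IrrCharacter G, k (φ • χ) = k χ := by
    intro φ hφ χ
    have h1 : (k (φ • χ) : ℂ) = (k χ : ℂ) := by
      rw [hk, hk, Core.classInner_def, Core.classInner_def]
      congr 1
      rw [← Equiv.sum_comp φ.toEquiv]
      refine Finset.sum_congr rfl fun g _ => ?_
      have h2 : ((φ • χ : IrrCharacter G) : G → ℂ) (φ.toEquiv g) = (χ : G → ℂ) g := by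
        rw [H687.autAct_apply]
        exact congrArg (χ : G → ℂ) (MulAut.inv_apply_self _ φ g)
      rw [h2]
      congr 1
      exact hinv φ hφ g
    exact_mod_cast h1
  have hc := count s X ε hM P hk
  obtain ⟨χ, h1, h2, h3, h4, h5⟩ := exists_fixed_of_sum hM k A hA hk' (by
    rw [hk1]
    intro h6
    exact h (hc.symm.trans h6))
  refine ⟨χ, h1, h2, h3, ?_, h5⟩
  rw [← hk]
  exact_mod_cast h4

theorem classInner_permC_one [Fintype G] (X : Type v) [Finite X] [MulAction G X] :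
    classInner (permC G X) (fun _ => 1) = (Nat.card (MulAction.orbitRel.Quotient G X) : ℂ) := by
  classical
  have := Fintype.ofFinite X
  have h0 : (Nat.card G : ℂ) ≠ 0 := by exact_mod_cast Nat.card_pos.ne'
  rw [Core.classInner_def, inv_mul_eq_iff_eq_mul₀ h0]
  have h1 := MulAction.sum_card_fixedBy_eq_card_orbits_mul_card_group G X
  rw [← Nat.card_eq_fintype_card, ← Nat.card_eq_fintype_card] at h1
  rw [mul_comm, ← Nat.cast_mul, MulAction.orbitRel.Quotient, ← h1]
  push_cast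
  refine Finset.sum_congr rfl fun g _ => ?_
  show (Nat.card (fixedBy X g) : ℂ) * conj (1 : ℂ) = _
  rw [← Nat.card_eq_fintype_card, map_one, mul_one]

/-- **The counting criterion**, for one `p`-group of automorphisms -/
theorem exists_of_count (hM : IsPModular p M) [Fintype G] (P : Sylow p G) (A : Subgroup (MulAut G)) (hA : IsPGroup p A)
    (hinv : ∀ a ∈ A, ∀ g : G, gpc G s X ε (a g) = gpc G s X ε g)
    (h : ¬ (∑ i ∈ s, ε i * (cnt (P : Subgroup G) (X i) : ℤ)) ≡
      ∑ i ∈ s, ε i * (Nat.card (MulAction.orbitRel.Quotient G (X i)) : ℤ) [ZMOD p]) :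
    ∃ χ : IrrCharacter G, χ ∈ principalBlock M G ∧ (χ : G → ℂ) ≠ (fun _ => 1) ∧ ¬ p ∣ charDegree (χ : G → ℂ) ∧
      classInner (gpc G s X ε) (χ : G → ℂ) ≠ 0 ∧ ∀ a ∈ A, ∀ x : G, (χ : G → ℂ) (a x) = (χ : G → ℂ) x := by
  refine exists_of_count' s X ε hM P A hA hinv
    (m := ∑ i ∈ s, ε i * (Nat.card (MulAction.orbitRel.Quotient G (X i)) : ℤ)) ?_ h
  rw [classInner_gpc, Int.cast_sum]
  refine Finset.sum_congr rfl fun i _ => ?_
  rw [classInner_permC_one]
  push_cast
  rfl

end perm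

section criteria

variable {S : Type u} [Group S] [Finite S]

theorem rowZ_of_count [Fintype S] (P : Sylow p S) {ι : Type*} (s : Finset ι)
    (X : ι → Type v) [∀ i, Finite (X i)] [∀ i, MulAction S (X i)] (ε : ι → ℤ)
    (hinv : ∀ a : MulAut S, (∃ k : ℕ, orderOf a = p ^ k) → ∀ g : S, gpc S s X ε (a g) = gpc S s X ε g)
    (hZ : ∀ χ : IrrCharacter S, classInner (gpc S s X ε) (χ : S → ℂ) ≠ 0 → ∀ g, ∃ k : ℤ, (χ : S → ℂ) g = k)
    (h : ¬ (∑ i ∈ s, ε i * (cnt (P : Subgroup S) (X i) : ℤ)) ≡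
      ∑ i ∈ s, ε i * (Nat.card (MulAction.orbitRel.Quotient S (X i)) : ℤ) [ZMOD p]) : RowZ p S := by
  intro A hA M hM
  obtain ⟨χ, h1, h2, h3, h4, h5⟩ := exists_of_count s X ε hM P A hA (fun a ha g => hinv a (by
    obtain ⟨k, hk⟩ := (IsPGroup.iff_orderOf.1 hA) ⟨a, ha⟩
    exact ⟨k, by rw [← hk, Subgroup.orderOf_mk]⟩) g) h
  exact ⟨χ, h1, h2, h3, hZ χ h4, h5⟩

theorem rowT_of_count [Fintype S] (P : Sylow p S) {ι : Type*} (s : Finset ι)
    (X : ι → Type v) [∀ i, Finite (X i)] [∀ i, MulAction S (X i)] (ε : ι → ℤ)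
    (hinv : ∀ a : MulAut S, (∃ k : ℕ, orderOf a = p ^ k) → ∀ g : S, gpc S s X ε (a g) = gpc S s X ε g)
    (hrat : ∀ χ : IrrCharacter S, classInner (gpc S s X ε) (χ : S → ℂ) ≠ 0 → PRat p (χ : S → ℂ))
    (h : ¬ (∑ i ∈ s, ε i * (cnt (P : Subgroup S) (X i) : ℤ)) ≡
      ∑ i ∈ s, ε i * (Nat.card (MulAction.orbitRel.Quotient S (X i)) : ℤ) [ZMOD p]) : RowT p S := by
  intro A hA M hM
  obtain ⟨χ, h1, h2, h3, h4, h5⟩ := exists_of_count s X ε hM P A hA (fun a ha g => hinv a (by
    obtain ⟨k, hk⟩ := (IsPGroup.iff_orderOf.1 hA) ⟨a, ha⟩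
    exact ⟨k, by rw [← hk, Subgroup.orderOf_mk]⟩) g) h
  exact ⟨χ, ⟨h1, h2, h3, hrat χ h4⟩, h5⟩

theorem gpc_single (X : Type v) [MulAction S X] :
    gpc S ({()} : Finset Unit) (fun _ => X) (fun _ => 1) = permC S X := by
  funext g
  simp [gpc]

theorem card_orb_one (X : Type v) [MulAction S X] [MulAction.IsPretransitive S X] [Nonempty X] :
    Nat.card (MulAction.orbitRel.Quotient S X) = 1 := by
  rw [Nat.card_eq_one_iff_unique]
  refine ⟨⟨fun a b => ?_⟩, ⟨Quotient.mk'' (Classical.arbitrary X)⟩⟩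
  induction a using Quotient.inductionOn' with
  | _ a =>
    induction b using Quotient.inductionOn' with
    | _ b =>
      obtain ⟨g, hg⟩ := MulAction.exists_smul_eq S b a
      exact Quotient.sound' (by rw [MulAction.orbitRel_apply]; exact ⟨g, hg⟩)

/-- **One transitive action**, integer valued constituents -/
theorem rowZ_of_cnt [Fintype S] (P : Sylow p S) (X : Type v) [Finite X] [Nonempty X] [MulAction S X]
    [MulAction.IsPretransitive S X]
    (hinv : ∀ a : MulAut S, (∃ k : ℕ, orderOf a = p ^ k) → ∀ g : S, permC S X (a g) = permC S X g)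
    (hZ : ∀ χ : IrrCharacter S, classInner (permC S X) (χ : S → ℂ) ≠ 0 → ∀ g, ∃ k : ℤ, (χ : S → ℂ) g = k)
    (h : ¬ cnt (P : Subgroup S) X ≡ 1 [MOD p]) : RowZ p S := by
  refine rowZ_of_count P ({()} : Finset Unit) (fun _ => X) (fun _ => 1) ?_ ?_ ?_
  · rw [gpc_single]
    exact hinv
  · rw [gpc_single]
    exact hZ
  · rw [Finset.sum_singleton, Finset.sum_singleton, card_orb_one, one_mul, one_mul]
    intro h1
    exact h ((Int.natCast_modEq_iff).1 h1)

/-- the same, `p`-rational constituents -/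
theorem rowT_of_cnt [Fintype S] (P : Sylow p S) (X : Type v) [Finite X] [Nonempty X] [MulAction S X]
    [MulAction.IsPretransitive S X]
    (hinv : ∀ a : MulAut S, (∃ k : ℕ, orderOf a = p ^ k) → ∀ g : S, permC S X (a g) = permC S X g)
    (hrat : ∀ χ : IrrCharacter S, classInner (permC S X) (χ : S → ℂ) ≠ 0 → PRat p (χ : S → ℂ))
    (h : ¬ cnt (P : Subgroup S) X ≡ 1 [MOD p]) : RowT p S := by
  refine rowT_of_count P ({()} : Finset Unit) (fun _ => X) (fun _ => 1) ?_ ?_ ?_
  · rw [gpc_single]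
    exact hinv
  · rw [gpc_single]
    exact hrat
  · rw [Finset.sum_singleton, Finset.sum_singleton, card_orb_one, one_mul, one_mul]
    intro h1
    exact h ((Int.natCast_modEq_iff).1 h1)

theorem int_of_rat {χ : S → ℂ} (hχ : IsCharacter S χ) (g : S) (h : ∃ r : ℚ, χ g = r) : ∃ k : ℤ, χ g = k := by
  obtain ⟨r, hr⟩ := h
  have h1 : IsIntegral ℤ (χ g) := Cfsg.Agent.Blocks.Blau.isIntegral_of_isCharacter hχ g
  have h2 : χ g = algebraMap ℚ ℂ r := by rw [hr, eq_ratCast]
  rw [h2] at h1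
  have h3 : IsIntegral ℤ r := (isIntegral_algebraMap_iff (algebraMap ℚ ℂ).injective).1 h1
  obtain ⟨m, hm⟩ := IsIntegrallyClosed.isIntegral_iff.1 h3
  refine ⟨m, ?_⟩
  rw [hr, ← hm]
  simp

/-- **One transitive action**, rational constituents -/
theorem rowZ_of_cnt_rat [Fintype S] (P : Sylow p S) (X : Type v) [Finite X] [Nonempty X] [MulAction S X]
    [MulAction.IsPretransitive S X]
    (hinv : ∀ a : MulAut S, (∃ k : ℕ, orderOf a = p ^ k) → ∀ g : S, permC S X (a g) = permC S X g)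
    (hQ : ∀ χ : IrrCharacter S, classInner (permC S X) (χ : S → ℂ) ≠ 0 → ∀ g, ∃ k : ℚ, (χ : S → ℂ) g = k)
    (h : ¬ cnt (P : Subgroup S) X ≡ 1 [MOD p]) : RowZ p S :=
  rowZ_of_cnt P X hinv (fun χ hχ g => int_of_rat (Core.isIrr_isCharacter χ.2) g (hQ χ hχ g)) h

/-- an irreducible difference of two permutation characters -/
theorem rowZ_of_irr [Fintype S] (P : Sylow p S) (X Y : Type v) [Finite X] [Finite Y] [MulAction S X] [MulAction S Y]
    (hirr : IsIrrCharacter S (fun g => permC S X g - permC S Y g)) (hne : ¬ ∀ g, permC S X g - permC S Y g = 1)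
    (hinv : ∀ a : MulAut S, (∃ k : ℕ, orderOf a = p ^ k) → ∀ g : S,
      permC S X (a g) - permC S Y (a g) = permC S X g - permC S Y g)
    (h : ¬ cnt (P : Subgroup S) X ≡ cnt (P : Subgroup S) Y [MOD p]) : RowZ p S := by
  classical
  let F : Bool → Type v := fun b => match b with
    | true => X
    | false => Y
  have i1 : ∀ b, Finite (F b) := fun b => match b with
    | true => (inferInstance : Finite X)
    | false => (inferInstance : Finite Y)
  let i2 : ∀ b, MulAction S (F b) := fun b => match b with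
    | true => (inferInstance : MulAction S X)
    | false => (inferInstance : MulAction S Y)
  let ε : Bool → ℤ := fun b => match b with
    | true => 1
    | false => -1
  have e1 : gpc S (Finset.univ : Finset Bool) F ε = fun g => permC S X g - permC S Y g := by
    funext g
    unfold gpc
    rw [Fintype.sum_bool]
    show ((1 : ℤ) : ℂ) * permC S X g + ((-1 : ℤ) : ℂ) * permC S Y g = _
    push_cast
    ring
  have e2 : ∑ i ∈ (Finset.univ : Finset Bool), ε i * (cnt (P : Subgroup S) (F i) : ℤ) =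
      (cnt (P : Subgroup S) X : ℤ) - cnt (P : Subgroup S) Y := by
    rw [Fintype.sum_bool]
    show (1 : ℤ) * (cnt (P : Subgroup S) X : ℤ) + (-1) * (cnt (P : Subgroup S) Y : ℤ) = _
    ring
  intro A hA M hM
  obtain ⟨χ, h1, h2, h3, h4, h5⟩ := exists_of_count' Finset.univ F ε hM P A hA (fun a ha g => by
    rw [e1]
    exact hinv a (by
      obtain ⟨k, hk⟩ := (IsPGroup.iff_orderOf.1 hA) ⟨a, ha⟩
      exact ⟨k, by rw [← hk, Subgroup.orderOf_mk]⟩) g) (m := 0) (by
    rw [e1, Int.cast_zero]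
    refine (Core.classInner_irr_ne hirr Blocks.Basic.isIrrCharacter_one ?_).symm
    intro h6
    exact hne fun g => congrFun h6 g) (by
    rw [e2]
    intro h6
    apply h
    rw [← Int.natCast_modEq_iff]
    have h7 := h6.add_right (cnt (P : Subgroup S) Y : ℤ)
    rw [sub_add_cancel, zero_add] at h7
    exact h7)
  rw [e1] at h4
  have h6 : (fun g => permC S X g - permC S Y g) = (χ : S → ℂ) := by
    by_contra h7
    exact h4 (Core.classInner_irr_ne hirr χ.2 h7)
  refine ⟨χ, h1, h2, h3, fun g => ?_, h5⟩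
  rw [← h6]
  exact ⟨(Nat.card (MulAction.fixedBy X g) : ℤ) - Nat.card (MulAction.fixedBy Y g), by
    unfold permC
    push_cast
    rfl⟩

/-- `cnt` counts to `#X` modulo `p` if the centralizer of `P` acts trivially on the fixed points of `P` -/
theorem cnt_modEq_card (P : Sylow p S) (X : Type v) [Finite X] [MulAction S X]
    (h : ∀ c ∈ centralizer (P : Set S), ∀ x : X, (∀ g ∈ (P : Subgroup S), g • x = x) → c • x = x) :
    cnt (P : Subgroup S) X ≡ Nat.card X [MOD p] := by
  have h1 := P.2.card_modEq_card_fixedPoints X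
  refine Nat.ModEq.trans ?_ h1.symm
  have h2 : cnt (P : Subgroup S) X = Nat.card (MulAction.fixedPoints P X) := by
    unfold cnt
    refine (Nat.card_congr
      { toFun := fun x => Quot.mk _ ⟨x.1, fun g hg => x.2 ⟨g, hg⟩⟩
        invFun := Quot.lift (fun x => ⟨x.1, fun g => x.2 g g.2⟩) ?_
        left_inv := ?_
        right_inv := ?_ }).symm
    · rintro x y ⟨c, hc, hcx⟩
      apply Subtype.ext
      show x.1 = y.1
      rw [← hcx, h c hc x.1 x.2]
    · intro x
      rfl
    · intro x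
      induction x using Quot.inductionOn with
      | _ x => rfl
  rw [h2]

end criteria

end Cfsg.Agent.H145.BR
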