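import Mathlib
import Cfsg.Agent.H145.BR.CountDefs

/-!
# S4891 : towers of `G`-sets (helper145)

The interface of the POLAR THEOREM (`tools/plans/S4891.md`, section 2): `X l` = the totally isotropic (singular)
subspaces of dimension `l`, `inc` = inclusion, `adj` = "`dim (U ∩ U') = l - 1` and `U + U'` is not totally isotropic".
-/

set_option autoImplicit false

namespace Cfsg.Agent.H145.BR

open Cfsg

universe u v

/-- A tower of `G`-sets with the relations of a polar space; `E l` is the incidence matrix of `X l` and `X (l + 1)`,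
`A l` the adjacency matrix on `X l`. -/
structure Tower (G : Type u) [Group G] (X : ℕ → Type v) [∀ l, Fintype (X l)] [∀ l, DecidableEq (X l)]
    [∀ l, MulAction G (X l)] where
  /-- incidence -/
  E : ∀ l, Matrix (X (l + 1)) (X l) ℚ
  /-- adjacency -/
  A : ∀ l, Matrix (X l) (X l) ℚ
  /-- the number of elements of `X (l + 1)` above an element of `X l` (minus `[l]_q`) -/
  c : ℕ → ℚ
  /-- the constants of the second relation -/
  n : ℕ → ℚ
  /-- the order of the geometry -/
  q : ℚ
  /-- the rank -/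
  m : ℕ
  /-- up to this level the third relation holds -/
  K : ℕ
  E_smul : ∀ l (g : G) W U, E l (g • W) (g • U) = E l W U
  A_smul : ∀ l (g : G) U U', A l (g • U) (g • U') = A l U U'
  A_symm : ∀ l U U', A l U U' = A l U' U
  q_pos : 0 < q
  empty : IsEmpty (X (m + 1))
  point : Nonempty (X 0) ∧ Subsingleton (X 0)
  rel0 : (E 0).transpose * E 0 = c 0 • (1 : Matrix (X 0) (X 0) ℚ) - A 0
  rel1 : ∀ l, (E (l + 1)).transpose * E (l + 1) - E l * (E l).transpose =
    c (l + 1) • (1 : Matrix (X (l + 1)) (X (l + 1)) ℚ) - A (l + 1)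
  rel2 : ∀ l, A (l + 1) * E l = q⁻¹ • (E l * A l) + n l • E l
  rel3 : ∀ l, l + 1 ≤ K → ∀ B : Matrix (X (l + 1)) (X (l + 1)) ℂ, (∀ (g : G) U U', B (g • U) (g • U') = B U U') →
    ∃ (f : Polynomial ℂ) (C : Matrix (X l) (X (l + 1)) ℂ),
      B = Polynomial.aeval ((A (l + 1)).map (algebraMap ℚ ℂ)) f + (E l).map (algebraMap ℚ ℂ) * C

end Cfsg.Agent.H145.BR
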