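import Mathlib
import Cfsg.Agent.H145.BR.Tower

/-!
# S4891 : polar spaces (helper145)

`PolarSpace F V` : the totally singular subspaces and the polarity of a reflexive sesquilinear (or quadratic) form.
`PolarAct` : a group acting on the lattice of subspaces and preserving everything (e.g. `PSp`, `PSU`, `PΩ`: they act on
the subspaces although not on `V`).  `PolarTrans` : the transitivity properties (Witt).
The geometric part of the POLAR THEOREM is: these give a `Tower` (`tools/plans/S4891.md`, section 2).
-/

set_option autoImplicit false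

namespace Cfsg.Agent.H145.BR

open Cfsg Module

universe u v w

/-- the totally singular subspaces and the polarity of a form -/
structure PolarSpace (F : Type u) [Field F] (V : Type v) [AddCommGroup V] [Module F V] where
  /-- totally singular subspaces -/
  sing : Submodule F V → Prop
  /-- the polarity -/
  perp : Submodule F V → Submodule F V
  sing_bot : sing ⊥
  sing_mono : ∀ {U W : Submodule F V}, U ≤ W → sing W → sing U
  le_perp_symm : ∀ {U W : Submodule F V}, U ≤ perp W → W ≤ perp U
  sing_le_perp : ∀ {U : Submodule F V}, sing U → U ≤ perp U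
  sing_sup : ∀ {U W : Submodule F V}, sing U → sing W → U ≤ perp W → sing (U ⊔ W)
  dim_symm : ∀ U W : Submodule F V, finrank F ↥(U ⊓ perp W) + finrank F W = finrank F ↥(W ⊓ perp U) + finrank F U

/-- the totally singular subspaces of dimension `l` -/
abbrev Sg {F : Type u} [Field F] {V : Type v} [AddCommGroup V] [Module F V] (S : PolarSpace F V) (l : ℕ) : Type v :=
  {U : Submodule F V // S.sing U ∧ finrank F U = l}

/-- `G` acts on the lattice of subspaces and preserves the polar space -/
structure PolarAct (G : Type w) [Group G] {F : Type u} [Field F] {V : Type v} [AddCommGroup V] [Module F V]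
    (S : PolarSpace F V) [MulAction G (Submodule F V)] : Prop where
  smul_le : ∀ (g : G) {U W : Submodule F V}, U ≤ W → g • U ≤ g • W
  smul_perp : ∀ (g : G) (U : Submodule F V), S.perp (g • U) = g • S.perp U
  smul_sing : ∀ (g : G) {U : Submodule F V}, S.sing U → S.sing (g • U)
  finrank_smul : ∀ (g : G) (U : Submodule F V), finrank F ↥(g • U) = finrank F U

/-- the action on `Sg S l` -/
@[reducible] def PolarAct.act {G : Type w} [Group G] {F : Type u} [Field F] {V : Type v} [AddCommGroup V] [Module F V]
    {S : PolarSpace F V} [MulAction G (Submodule F V)] (h : PolarAct G S) (l : ℕ) : MulAction G (Sg S l) where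
  smul g U := ⟨g • U.1, h.smul_sing g U.2.1, (h.finrank_smul g U.1).trans U.2.2⟩
  one_smul U := Subtype.ext (one_smul G U.1)
  mul_smul g g' U := Subtype.ext (mul_smul g g' U.1)

/-- the transitivity properties: `G` is transitive on the subspaces of given dimension, on the flags of two subspaces of
consecutive dimensions, and, for the dimensions `k ≤ K`, on the pairs `(U, U')` with given `dim (U ∩ U')` and
`dim (U' ∩ U^⊥)` -/
structure PolarTrans (G : Type w) [Group G] {F : Type u} [Field F] {V : Type v} [AddCommGroup V] [Module F V]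
    (S : PolarSpace F V) [MulAction G (Submodule F V)] (K : ℕ) : Prop where
  trans : ∀ (l : ℕ) (U U' : Sg S l), ∃ g : G, g • U.1 = U'.1
  flag : ∀ (l : ℕ) (U U' : Sg S l) (W W' : Sg S (l + 1)), U.1 ≤ W.1 → U'.1 ≤ W'.1 →
    ∃ g : G, g • U.1 = U'.1 ∧ g • W.1 = W'.1
  pair : ∀ (k : ℕ), k ≤ K → ∀ U U' W W' : Sg S k, finrank F ↥(U.1 ⊓ U'.1) = finrank F ↥(W.1 ⊓ W'.1) →
    finrank F ↥(U'.1 ⊓ S.perp U.1) = finrank F ↥(W'.1 ⊓ S.perp W.1) → ∃ g : G, g • U.1 = W.1 ∧ g • U'.1 = W'.1

end Cfsg.Agent.H145.BR
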